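import Cfsg.Agent.Lib.TransLinear.Layer
import Cfsg.Agent.Lib.NumberTheory.Zsigmondy

/-! Huppert: solvable groups transitive on the nonzero vectors. -/

namespace CfsgLib.TransLinear

open Subgroup
open scoped commutatorElement

variable {q : ℕ} [Fact q.Prime] {V : Type*} [AddCommGroup V] [Module (ZMod q) V] [Finite V]
  {G : Type*} [Group G] [Finite G] {ρ : G →* (V ≃ₗ[ZMod q] V)}

theorem pow_sub_one_dvd [Nontrivial V] (htr : Trans ρ) :
    q ^ Module.finrank (ZMod q) V - 1 ∣ Nat.card G := by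
  obtain ⟨v, hv⟩ := exists_ne (0 : V)
  letI : MulAction G V :=
    { smul := fun g w => ρ g w
      one_smul := fun w => by show ρ 1 w = w; rw [map_one]; rfl
      mul_smul := fun g h w => by show ρ (g * h) w = ρ g (ρ h w); rw [map_mul]; rfl }
  have horb : MulAction.orbit G v = ({0} : Set V)ᶜ := by
    ext w
    refine ⟨?_, fun hw => htr v w hv hw⟩
    rintro ⟨g, rfl⟩ h
    exact hv ((ρ g).map_eq_zero_iff.mp (show ρ g v = 0 from h))
  have h1 := (MulAction.stabilizer G v).card_mul_index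
  rw [MulAction.index_stabilizer, horb, Set.ncard_compl, Set.ncard_singleton,
    Module.natCard_eq_pow_finrank (K := ZMod q) (V := V), Nat.card_zmod] at h1
  exact Dvd.intro_left _ h1

/-- Elements commuting with an irreducible element commute. -/
theorem commute_of_irreducible [Nontrivial V] (hρ : Function.Injective ρ) {x : G}
    (hirr : ∀ U : Submodule (ZMod q) V, (∀ w ∈ U, act ρ x w ∈ U) → U = ⊥ ∨ U = ⊤) {u w : G}
    (hu : u * x = x * u) (hw : w * x = x * w) : u * w = w * u := by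
  obtain ⟨v, hv⟩ := exists_ne (0 : V)
  let R := Algebra.adjoin (ZMod q) {act ρ x}
  let U : Submodule (ZMod q) V := LinearMap.range ((LinearMap.applyₗ v).comp R.val.toLinearMap)
  have hU : U = ⊤ := by
    refine (hirr U ?_).resolve_left fun h => hv ?_
    · rintro _ ⟨r, rfl⟩
      exact ⟨⟨act ρ x * r.1, mul_mem (Algebra.self_mem_adjoin_singleton _ _) r.2⟩, rfl⟩
    · have h1 : v ∈ U := ⟨1, rfl⟩
      rwa [h, Submodule.mem_bot] at h1
  have hc : ∀ g : G, g * x = x * g → ∀ r ∈ R, Commute (act ρ g) r := by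
    intro g hg r hr
    induction hr using Algebra.adjoin_induction with
    | mem y hy =>
      rw [Set.mem_singleton_iff] at hy
      subst hy
      show _ = _
      rw [← map_mul, ← map_mul, hg]
    | algebraMap c => exact (Algebra.commutes c _).symm
    | add a b _ _ ha hb => exact ha.add_right hb
    | mul a b _ _ ha hb => exact ha.mul_right hb
  obtain ⟨r, hr⟩ : act ρ u v ∈ U := hU ▸ Submodule.mem_top
  have hfu : act ρ u = r.1 := by
    refine LinearMap.ext fun z => ?_
    obtain ⟨t, rfl⟩ : z ∈ U := hU ▸ Submodule.mem_top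
    show act ρ u (t.1 v) = r.1 (t.1 v)
    change r.1 v = act ρ u v at hr
    rw [← Module.End.mul_apply, (hc u hu t.1 t.2).eq, Module.End.mul_apply, ← hr,
      ← Module.End.mul_apply]
    rw [← Module.End.mul_apply r.1 t.1]
    have : Commute t.1 r.1 :=
      (Algebra.commute_of_mem_adjoin_singleton_of_commute r.2
        (Algebra.commute_of_mem_adjoin_singleton_of_commute t.2 (Commute.refl _)).symm).symm.symm
    rw [this.eq]
  apply act_injective ρ hρ
  rw [map_mul, map_mul, hfu]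
  exact (hc w hw r.1 r.2).symm.eq

theorem odd_prime_dvd_pow_add_one {q e : ℕ} (hq : q.Prime) (hodd : q ≠ 2) (he : Even e) (he0 : 0 < e) :
    ∃ p, p.Prime ∧ p ≠ 2 ∧ p ∣ q ^ e + 1 := by
  have ho : Odd q := hq.odd_of_ne_two hodd
  obtain ⟨f, rfl⟩ := he
  have ho' : Odd (q ^ f) := ho.pow
  obtain ⟨t, ht⟩ := ho'
  have heq : q ^ (f + f) + 1 = 2 * (2 * (t * t + t) + 1) := by rw [pow_add, ht]; ring
  have ht0 : 0 < t := by
    have : q ≤ q ^ f := Nat.le_self_pow (by omega) q
    have := hq.two_le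
    omega
  obtain ⟨p, hp, hpd⟩ := Nat.exists_prime_and_dvd (n := 2 * (t * t + t) + 1) (by omega)
  refine ⟨p, hp, ?_, heq ▸ hpd.mul_left 2⟩
  rintro rfl
  omega

theorem sq_add_one_bound {q : ℕ} (hq : q.Prime) (hodd : q ≠ 2)
    (h : q ^ 2 + 1 ∣ 16 * 20160) : q = 3 := by
  obtain ⟨t, ht⟩ := hq.odd_of_ne_two hodd
  have h4 : (q ^ 2 + 1) % 4 = 2 := by
    have : q ^ 2 + 1 = 4 * (t * t + t) + 2 := by rw [ht]; ring
    omega
  have h3 : ¬ 3 ∣ q ^ 2 + 1 := by
    rw [Nat.dvd_iff_mod_eq_zero, Nat.add_mod, Nat.pow_mod]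
    have := Nat.mod_lt q (show 0 < 3 by norm_num)
    interval_cases q % 3 <;> norm_num
  have h7 : ¬ 7 ∣ q ^ 2 + 1 := by
    rw [Nat.dvd_iff_mod_eq_zero, Nat.add_mod, Nat.pow_mod]
    have := Nat.mod_lt q (show 0 < 7 by norm_num)
    interval_cases q % 7 <;> norm_num
  have hco : Nat.Coprime (q ^ 2 + 1) (63) := by
    rw [show (63 : ℕ) = 3 ^ 2 * 7 by norm_num]
    exact ((Nat.Coprime.pow_right 2 ((Nat.Prime.coprime_iff_not_dvd Nat.prime_three).mpr h3).symm)).mul_right
      ((Nat.Prime.coprime_iff_not_dvd (by norm_num)).mpr h7).symm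
  have h5 : q ^ 2 + 1 ∣ 2 ^ 10 * 5 := hco.dvd_of_dvd_mul_right (by
    rw [show 2 ^ 10 * 5 * 63 = 16 * 20160 by norm_num]; exact h)
  have hle : q ^ 2 + 1 ≤ 2 ^ 10 * 5 := Nat.le_of_dvd (by norm_num) h5
  have hq72 : q ≤ 71 := by nlinarith
  interval_cases q <;> norm_num at *

theorem small_two_case {q : ℕ} (hq : q.Prime) (hodd : q ≠ 2) (h : q + 1 ∣ 24) :
    q ^ 2 ∈ ({9, 25, 49, 121, 529, 81} : Set ℕ) := by
  have := Nat.le_of_dvd (by norm_num) h
  have hq23 : q ≤ 23 := by omega
  interval_cases q <;> norm_num at *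

theorem huppert [Nontrivial V] (hsol : Group.IsSolvable G) (hρ : Function.Injective ρ)
    (htr : Trans ρ) :
    (∃ (F : Type) (_ : Field F) (_ : Fintype F) (e : V ≃+ F),
      ∀ g : G, ∃ (a : F) (σ : F ≃+* F), ∀ v : V, e (ρ g v) = a * σ (e v)) ∨
    Nat.card V ∈ ({9, 25, 49, 121, 529, 81} : Set ℕ) := by
  classical
  obtain ⟨A, hAn, hAc, hmax⟩ := exists_maxAb (G := G)
  obtain ⟨ha0, hAdvd, hidx⟩ := index_and_card hρ htr hAn hAc
  set n := Module.finrank (ZMod q) V with hn
  set a := deg ρ A with ha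
  by_cases hna : n ≤ a
  · exact Or.inl (semilinear_of_deg htr hAn hAc hna)
  rw [not_le] at hna
  right
  have hqp : q.Prime := Fact.out
  have hcardG := pow_sub_one_dvd htr
  rw [← hn] at hcardG
  have hAle : Nat.card A ≤ q ^ a - 1 := Nat.le_of_dvd (by
    have := Nat.one_lt_pow ha0.ne' hqp.one_lt; omega) hAdvd
  letI := algField htr hAn hAc
  have : Module.Finite (alg ρ A) V := Module.Finite.of_finite
  have han : a ∣ n :=
    ⟨Module.finrank (alg ρ A) V, (Module.finrank_mul_finrank (ZMod q) (alg ρ A) V).symm⟩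
  have h2a : 2 * a ≤ n := by
    obtain ⟨m, hm⟩ := han
    have : 2 ≤ m := by
      by_contra h
      interval_cases m <;> omega
    rw [hm, mul_comm 2]; exact Nat.mul_le_mul_left _ this
  have hne : centralizer (A : Set G) ≠ A := by
    intro he
    have h1 := (centralizer (A : Set G)).card_mul_index
    have h2 : q ^ n - 1 ≤ Nat.card G := Nat.le_of_dvd Nat.card_pos hcardG
    have h3 : Nat.card G ≤ (q ^ a - 1) * a := by
      rw [← h1, he]
      exact Nat.mul_le_mul hAle (by rw [← he]; exact Nat.le_of_dvd ha0 hidx)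
    have h4 : q ^ a * q ^ a ≤ q ^ n := by
      rw [← pow_add]; exact Nat.pow_le_pow_right hqp.pos (by omega)
    have h5 : a < q ^ a := Nat.lt_pow_self hqp.one_lt
    have h6 : (q ^ a - 1) * a + 1 < q ^ a * q ^ a := by
      obtain ⟨r, hr⟩ := Nat.exists_eq_add_of_le (show 1 ≤ q ^ a by omega)
      rw [hr, Nat.add_sub_cancel_left]
      nlinarith
    omega
  obtain ⟨N, s, hL⟩ := exists_layer hsol hAn hAc hmax hne
  obtain ⟨j, k, hj, hk, hj1, hsj, hsq, hjn, hsat⟩ := layer_twist hρ htr hAn hAc hmax hL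
  rw [← ha, ← hn] at hjn
  rw [← ha] at hsq
  have hV : Nat.card V = q ^ n := by
    rw [Module.natCard_eq_pow_finrank (K := ZMod q) (V := V), Nat.card_zmod]
  have hCtop : a = 1 → ∀ y, y ∈ centralizer (A : Set G) := fun h y => by
    rw [h, Nat.dvd_one, index_eq_one] at hidx
    rw [hidx]; exact mem_top y
  have hs2 := hL.prime.two_le
  have hsle : s ≤ j := Nat.le_of_dvd (by omega) hsj
  have hcount : a = 1 → s = 2 → j = n → ∃ d, (q ^ n - 1) ∣ (q - 1) * (2 ^ k * d) ∧
      d ∣ ∏ i : Fin k, (2 ^ k - 2 ^ (i : ℕ)) := by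
    intro h1 h2 h3
    subst h2
    obtain ⟨d, hd, hdd⟩ := card_eq_of_saturated hAn hL hk fun y hy =>
      (hsat (by rw [← ha, ← hn, h1, mul_one, h3]) y (hCtop h1 y)).1 hy
    refine ⟨d, hcardG.trans ?_, hdd⟩
    rw [hd, mul_assoc]
    refine mul_dvd_mul ?_ dvd_rfl
    rw [h1, pow_one] at hAdvd
    exact hAdvd
  by_cases hn2 : n = 2
  · have ha1 : a = 1 := by omega
    rw [ha1, pow_one] at hsq
    rw [ha1, mul_one] at hjn
    have hj2 : j = 2 := by omega
    have hs : s = 2 := by omega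
    obtain ⟨d, hd, hdd⟩ := hcount ha1 hs (by omega)
    have hk2 : k = 2 := Nat.pow_right_injective (le_refl 2) (by
      show 2 ^ k = 2 ^ 2
      rw [← hs, ← hk, hj, hj2, hs])
    subst hk2
    rw [hn2] at hd hV
    have hq2 : q ≠ 2 := by
      rintro rfl
      rw [hs] at hsq; norm_num at hsq
    have h24 : (q + 1) ∣ 24 := by
      have e1 : q ^ 2 - 1 = (q - 1) * (q + 1) := by
        rw [mul_comm]; simpa using Nat.sq_sub_sq q 1
      rw [e1] at hd
      have := Nat.dvd_of_mul_dvd_mul_left (by have := hqp.two_le; omega) hd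
      refine this.trans ?_
      simp only [Fin.prod_univ_two] at hdd
      rw [show (24 : ℕ) = 2 ^ 2 * 6 by norm_num]
      exact mul_dvd_mul dvd_rfl (by simpa using hdd)
    have := Nat.le_of_dvd (by norm_num) h24
    rw [hV]
    exact small_two_case hqp hq2 h24
  have hn3 : 2 < n := by omega
  by_cases h26 : q = 2 ∧ n = 6
  · exfalso
    obtain ⟨rfl, hn6⟩ := h26
    rw [hn6] at han hjn hcardG
    have : Fact (Nat.Prime 7) := ⟨by norm_num⟩
    obtain ⟨y, hy7⟩ := exists_prime_orderOf_dvd_card' (G := G) 7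
      ((show (7 : ℕ) ∣ 2 ^ 6 - 1 by norm_num).trans hcardG)
    have hyp : y ^ 7 = 1 := by rw [← hy7, pow_orderOf_eq_one]
    have ha3 : a = 1 ∨ a = 2 ∨ a = 3 := by
      have : a ≤ 3 := by omega
      omega
    rcases ha3 with h | h | h
    · rw [h] at hsq; norm_num at hsq; omega
    · rw [h] at hsq hjn hAdvd
      norm_num at hsq hAdvd
      have hs3 : s = 3 := (Nat.prime_dvd_prime_iff_eq hL.prime Nat.prime_three).mp hsq
      have hj3 : j = 3 := by omega
      have hyC : y ∈ centralizer (A : Set G) := by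
        rw [h] at hidx
        by_contra hc
        have hidx2 : (centralizer (A : Set G)).index = 2 := by
          rcases (Nat.dvd_prime Nat.prime_two).mp hidx with e | e
          · rw [index_eq_one] at e; exact absurd (e ▸ mem_top y) hc
          · exact e
        have h7 := Subgroup.sq_mem_of_index_two hidx2 y
        apply hc
        have : y = (y ^ 2) ^ 4 := by
          rw [← pow_mul, show 2 * 4 = 7 + 1 by rfl, pow_succ, hyp, one_mul]
        rw [this]; exact pow_mem h7 _
      have h7A : ¬ 7 ∣ Nat.card A := fun h7 => by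
        have := Nat.le_of_dvd (by norm_num) (h7.trans hAdvd); omega
      have hyA : y ∈ A := by
        refine (hsat (by rw [← ha, ← hn, h, hn6, hj3]) y hyC).2 ?_
        by_contra hno
        simp only [not_forall] at hno
        obtain ⟨u, hu, hyu⟩ := hno
        have := prime_bound hρ htr hAn hAc hL hyC (by norm_num) hyp h7A
          (by rw [hj, hj3]; norm_num) hj ⟨u, hu, hyu⟩
        omega
      exact h7A (hy7 ▸ Subgroup.orderOf_dvd_natCard A hyA)
    · rw [h] at hsq hjn
      norm_num at hsq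
      have := (Nat.prime_dvd_prime_iff_eq hL.prime (by norm_num)).mp hsq
      omega
  obtain ⟨r, hr⟩ := CfsgLib.NumberTheory.exists_isPPD_of_two_lt hqp.one_lt hn3 h26
  have hrp : r.Prime := hr.1
  have hrn : n < r := hr.lt hqp.pos (by omega)
  have : Fact r.Prime := ⟨hrp⟩
  obtain ⟨x, hx⟩ := exists_prime_orderOf_dvd_card' (G := G) r (hr.2.1.trans hcardG)
  have hxr : x ^ r = 1 := hx ▸ pow_orderOf_eq_one x
  have hirr : ∀ U : Submodule (ZMod q) V, (∀ w ∈ U, act ρ x w ∈ U) → U = ⊥ ∨ U = ⊤ :=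
    irreducible_of_ppd hrp (by rw [← map_pow, hxr, map_one]) (fun h => by
      have := act_injective ρ hρ (h.trans (map_one (act ρ)).symm)
      rw [this, orderOf_one] at hx; exact hrp.ne_one hx.symm)
      (hr.not_dvd_base hqp.pos (by omega)) hr.2.2
  have hxC : x ∈ centralizer (A : Set G) := by
    have hCn : (centralizer (A : Set G)).Normal := inferInstance
    have h1 := Subgroup.pow_index_mem (centralizer (A : Set G)) x
    have hco : Nat.Coprime (centralizer (A : Set G)).index r := by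
      refine ((Nat.Prime.coprime_iff_not_dvd hrp).mpr fun h => ?_).symm
      have := Nat.le_of_dvd ha0 (h.trans hidx)
      omega
    obtain ⟨u, hu⟩ := Nat.exists_mul_mod_eq_one_of_coprime hco hrp.one_lt
    have : x = (x ^ (centralizer (A : Set G)).index) ^ u := by
      rw [← pow_mul, ← pow_mod_orderOf, hx, hu.2, pow_one]
    rw [this]; exact pow_mem h1 _
  have hrA : ¬ r ∣ Nat.card A := fun h => hr.2.2 a ha0 hna (h.trans hAdvd)
  have hjle : j ≤ n := le_trans (Nat.le_mul_of_pos_right j ha0) hjn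
  have hrW : ¬ r ∣ A.relIndex N := by
    rw [hk]
    intro h
    have := (Nat.prime_dvd_prime_iff_eq hrp hL.prime).mp (hrp.dvd_of_dvd_pow h)
    omega
  have hxne : ∃ u ∈ N, x * u ≠ u * x := by
    by_contra hno
    simp only [not_exists, not_and, ne_eq, not_not] at hno
    exact hL.not_le fun u hu => hL.cent u hu fun w hw =>
      commute_of_irreducible hρ hirr (hno w hw).symm (hno u hu).symm
  have hbound := prime_bound hρ htr hAn hAc hL hxC hrp hxr hrA hrW hj hxne
  have hjn' : j = n := by omega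
  have hrn1 : r = n + 1 := by omega
  have ha1 : a = 1 := by
    have : n * a ≤ n * 1 := by rw [mul_one, ← hjn'] at *; omega
    have := Nat.le_of_mul_le_mul_left this (by omega)
    omega
  rw [ha1, pow_one] at hsq
  have hrodd : Odd r := hrp.odd_of_ne_two (by omega)
  have hs : s = 2 := by
    have h2n : 2 ∣ n * n := dvd_mul_of_dvd_left (by obtain ⟨t, ht⟩ := hrodd; omega) _
    rw [← hjn', ← hj, hk] at h2n
    exact ((Nat.prime_dvd_prime_iff_eq Nat.prime_two hL.prime).mp
      (Nat.prime_two.dvd_of_dvd_pow h2n)).symm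
  have hq2 : q ≠ 2 := by
    rintro rfl
    rw [hs] at hsq; norm_num at hsq
  obtain ⟨w, hw, hnw⟩ : ∃ w, 2 ≤ w ∧ n = 2 ^ w := by
    have h2 : n ∣ 2 ^ k := ⟨n, by rw [← hs, ← hk, hj, hjn']⟩
    obtain ⟨w, -, hw⟩ := (Nat.dvd_prime_pow Nat.prime_two).mp h2
    refine ⟨w, ?_, hw⟩
    by_contra hlt
    interval_cases w <;> omega
  by_cases hw2 : w = 2
  · subst hw2
    obtain ⟨d, hd, hdd⟩ := hcount ha1 hs hjn'
    have hk4 : k = 4 := Nat.pow_right_injective (le_refl 2) (by
      show 2 ^ k = 2 ^ 4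
      rw [← hs, ← hk, hj, hjn', hnw, hs]; norm_num)
    subst hk4
    rw [hnw] at hd hV
    norm_num at hd hV
    simp only [Fin.prod_univ_four] at hdd
    norm_num at hdd
    have e1 : q ^ 4 - 1 = (q - 1) * ((q + 1) * (q ^ 2 + 1)) := by
      obtain ⟨t, rfl⟩ := Nat.exists_eq_add_of_le hqp.one_le
      rw [Nat.add_sub_cancel_left]
      apply Nat.sub_eq_of_eq_add
      ring
    rw [e1] at hd
    have h2 := Nat.dvd_of_mul_dvd_mul_left (by have := hqp.two_le; omega) hd
    have h3 := sq_add_one_bound hqp hq2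
      (((dvd_mul_left _ _).trans h2).trans (mul_dvd_mul dvd_rfl hdd))
    rw [hV, h3]
    norm_num
  exfalso
  obtain ⟨m, hm⟩ := Nat.pow_of_pow_add_prime (a := 2) (by norm_num) (by omega : w ≠ 0)
    (by rw [← hnw, ← hrn1]; exact hrp)
  have hweven : Even w := by
    rw [hm]
    exact Nat.even_pow.mpr ⟨even_two, fun h => by rw [h] at hm; omega⟩
  obtain ⟨i, rfl⟩ : ∃ i, w = i + 2 := ⟨w - 2, by omega⟩
  obtain ⟨p, hp, hp2, hpd⟩ := odd_prime_dvd_pow_add_one hqp hq2
    (e := 2 ^ i) (Nat.even_pow.mpr ⟨even_two, by omega⟩) (Nat.two_pow_pos i)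
  have hord := orderOf_of_dvd_pow_two_add_one hp hp2 hpd
  have : Fact p.Prime := ⟨hp⟩
  have hdiv : ∀ e, p ∣ q ^ e - 1 ↔ 2 ^ (i + 1) ∣ e := fun e => by
    rw [CfsgLib.NumberTheory.dvd_pow_sub_one_iff_orderOf_dvd hqp.one_le, hord]
  obtain ⟨y, hy⟩ := exists_prime_orderOf_dvd_card' (G := G) p
    (((hdiv n).mpr (hnw ▸ Nat.pow_dvd_pow 2 (by omega))).trans hcardG)
  have hyp : y ^ p = 1 := hy ▸ pow_orderOf_eq_one y
  have hyC := hCtop ha1 y
  have hp1 : 1 < 2 ^ (i + 1) := Nat.one_lt_pow (by omega) (by norm_num)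
  have hpA : ¬ p ∣ Nat.card A := by
    intro h
    have h1 := h.trans hAdvd
    rw [ha1, hdiv] at h1
    have := Nat.le_of_dvd one_pos h1
    omega
  have hpW : ¬ p ∣ A.relIndex N := by
    rw [hk, hs]
    intro h
    exact hp2 ((Nat.prime_dvd_prime_iff_eq hp Nat.prime_two).mp (hp.dvd_of_dvd_pow h))
  have hyne : ∃ u ∈ N, y * u ≠ u * y := by
    by_contra hno
    simp only [not_exists, not_and, ne_eq, not_not] at hno
    exact hpA (hy ▸ Subgroup.orderOf_dvd_natCard A
      ((hsat (by rw [← ha, ← hn, ha1, mul_one, hjn']) y hyC).2 hno))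
  have hpb := prime_bound hρ htr hAn hAc hL hyC hp hyp hpA hpW hj hyne
  have hpm : 2 ^ (i + 1) ∣ p - 1 := by
    rw [← hord]
    refine ZMod.orderOf_dvd_card_sub_one fun h => ?_
    rw [h, orderOf_zero] at hord
    omega
  obtain ⟨c, hc⟩ := hpm
  have hn' : n = 2 ^ (i + 1) * 2 := by rw [hnw, ← pow_succ]
  have hc2 : c ≤ 2 := Nat.le_of_mul_le_mul_left (by omega) (Nat.two_pow_pos (i + 1))
  interval_cases c
  · have := hp.two_le; omega
  · obtain ⟨m', hm'⟩ := Nat.pow_of_pow_add_prime (a := 2) (by norm_num) (by omega : i + 1 ≠ 0)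
      (by rw [show 2 ^ (i + 1) + 1 = p by have := hp.two_le; omega]; exact hp)
    rcases Nat.eq_zero_or_pos m' with rfl | hpos
    · omega
    · have h1 : Even (i + 1) := hm' ▸ Nat.even_pow.mpr ⟨even_two, by omega⟩
      exact Nat.even_add_one.mp hweven h1
  · have hpr : p = r := by have := hp.two_le; omega
    have h1 := hr.orderOf_eq hqp.one_le (by omega)
    rw [← hpr, hord] at h1
    omega

end CfsgLib.TransLinear
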