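import Mathlib
import Cfsg.Agent.Lib.Structure.TransitiveSolvable

/-! Twisted families of endomorphisms, automorphisms of alternating pairings, prime bounds. -/

namespace CfsgLib.TransLinear

open Finset

section Twist

variable {K E ι U : Type*} [Field K] [Ring E] [Algebra K E] (v : ι → E) (u : U → E)
  (c : U → ι → K)

theorem twist_sum (hu : ∀ a, IsUnit (u a)) (h : ∀ a i, u a * v i = c a i • (v i * u a))
    {s : Finset ι} {g : ι → K} {y : E} {d : U → K} (hy : ∑ i ∈ s, g i • v i = y)
    (hd : ∀ a, u a * y = d a • (y * u a)) (a : U) :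
    ∑ i ∈ s, (g i * (c a i - d a)) • v i = 0 := by
  have key : (∑ i ∈ s, (g i * (c a i - d a)) • v i) * u a = 0 := by
    have h1 := hd a
    rw [← hy, Finset.mul_sum, Finset.sum_mul, Finset.smul_sum] at h1
    rw [Finset.sum_mul, ← sub_eq_zero.mpr h1, ← Finset.sum_sub_distrib]
    refine Finset.sum_congr rfl fun i _ => ?_
    rw [mul_smul_comm, h, smul_mul_assoc, smul_mul_assoc, smul_smul, smul_smul, ← sub_smul]
    ring_nf
  exact (hu a).mul_left_eq_zero.mp key

/-- Eigenvectors for distinct systems of multipliers are independent. -/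
theorem twist_independent (hv : ∀ i, v i ≠ 0) (hu : ∀ a, IsUnit (u a))
    (h : ∀ a i, u a * v i = c a i • (v i * u a)) (hsep : ∀ i j, i ≠ j → ∃ a, c a i ≠ c a j) :
    LinearIndependent K v := by
  classical
  rw [linearIndependent_iff']
  intro s
  induction s using Finset.induction_on with
  | empty => simp
  | @insert j s hj ih =>
    intro g hg
    have hs : ∀ i ∈ s, g i = 0 := by
      intro i hi
      obtain ⟨a, ha⟩ := hsep i j (fun e => hj (e ▸ hi))
      have h1 := twist_sum v u c hu h (y := 0) (d := fun a => c a j) hg (fun a => by simp) a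
      rw [Finset.sum_insert hj, sub_self, mul_zero, zero_smul, zero_add] at h1
      exact (mul_eq_zero.mp (ih _ h1 i hi)).resolve_right (sub_ne_zero.mpr ha)
    intro i hi
    rcases Finset.mem_insert.mp hi with rfl | hi
    · rw [Finset.sum_insert hj, Finset.sum_eq_zero (fun k hk => by rw [hs k hk, zero_smul]),
        add_zero] at hg
      exact (smul_eq_zero.mp hg).resolve_right (hv i)
    · exact hs i hi

/-- An eigenvector in the span of a twisted family is a multiple of one member. -/
theorem twist_span [Fintype ι] (hv : ∀ i, v i ≠ 0) (hu : ∀ a, IsUnit (u a))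
    (h : ∀ a i, u a * v i = c a i • (v i * u a)) (hsep : ∀ i j, i ≠ j → ∃ a, c a i ≠ c a j)
    (hspan : Submodule.span K (Set.range v) = ⊤) {y : E} (hy : y ≠ 0) {d : U → K}
    (hd : ∀ a, u a * y = d a • (y * u a)) :
    ∃ i, ∃ b : K, y = b • v i ∧ ∀ a, c a i = d a := by
  classical
  have hli := twist_independent v u c hv hu h hsep
  obtain ⟨g, hg⟩ := Submodule.mem_span_range_iff_exists_fun K |>.mp
    (hspan ▸ Submodule.mem_top : y ∈ Submodule.span K (Set.range v))
  obtain ⟨i, hi⟩ : ∃ i, g i ≠ 0 := by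
    by_contra hno
    simp only [not_exists, not_not] at hno
    exact hy (by rw [← hg]; simp [hno])
  have hz : ∀ a j, g j * (c a j - d a) = 0 := fun a j =>
    linearIndependent_iff'.mp hli _ _ (twist_sum v u c hu h hg hd a) j (Finset.mem_univ j)
  have hci : ∀ a, c a i = d a := fun a =>
    sub_eq_zero.mp ((mul_eq_zero.mp (hz a i)).resolve_left hi)
  refine ⟨i, g i, ?_, hci⟩
  rw [← hg]
  refine Finset.sum_eq_single i (fun j _ hj => ?_) (fun h => absurd (Finset.mem_univ i) h)
  obtain ⟨a, ha⟩ := hsep j i hj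
  rw [(mul_eq_zero.mp (hz a j)).resolve_right (sub_ne_zero.mpr (hci a ▸ ha)), zero_smul]

end Twist

/-- A prime order automorphism of a nondegenerate alternating pairing on a group of order prime
to it: the prime is at most one more than the square root of the order. -/
theorem pairing_prime_bound {F : Type*} [Field F] [Finite F] {W : Type*} [CommGroup W] [Finite W]
    (χ : W →* W →* Fˣ) (halt : ∀ w, χ w w = 1) (hnd : ∀ w, (∀ x, χ w x = 1) → w = 1)
    (φ : MulAut W) (hφ : ∀ w x, χ (φ w) (φ x) = χ w x) {r j : ℕ} (hr : r.Prime)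
    (hrφ : φ ^ r = 1) (hne : φ ≠ 1) (hcop : ¬ r ∣ Nat.card W) (hj : Nat.card W = j * j) :
    r ≤ j + 1 := by
  classical
  have : Fact r.Prime := ⟨hr⟩
  have hcomm : ∀ u w, χ w u = (χ u w)⁻¹ := fun u w => by
    have := halt (u * w)
    simp only [map_mul, MonoidHom.mul_apply, halt, one_mul, mul_one] at this
    exact eq_inv_of_mul_eq_one_left (by simpa [mul_comm] using this)
  let δ : W →* W := φ.toMonoidHom / MonoidHom.id W
  have hδ : ∀ w, δ w = φ w / w := fun w => rfl
  have hfix0 : ∀ u, u ∈ δ.ker ↔ φ u = u := fun u => by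
    rw [MonoidHom.mem_ker, hδ, div_eq_one]
  have hpow : ∀ (k : ℕ) w u, φ w = w * u → φ u = u → (φ ^ k) w = w * u ^ k := by
    intro k
    induction k with
    | zero => simp
    | succ k ih =>
      intro w u hw hu
      rw [pow_succ', MulAut.mul_apply, ih w u hw hu, map_mul, map_pow, hw, hu, pow_succ', mul_assoc]
  have hdis : ∀ u ∈ δ.range, φ u = u → u = 1 := by
    rintro u ⟨w, rfl⟩ hu
    have h1 := hpow r w (δ w) (by rw [hδ, mul_div_cancel]) hu
    rw [hrφ, MulAut.one_apply, left_eq_mul] at h1
    have h2 := orderOf_dvd_of_pow_eq_one h1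
    rcases (Nat.dvd_prime hr).mp h2 with h3 | h3
    · exact orderOf_eq_one_iff.mp h3
    · exact absurd (h3 ▸ orderOf_dvd_natCard (δ w)) hcop
  have hinv : ∀ u ∈ δ.range, φ u ∈ δ.range := by
    rintro u ⟨w, rfl⟩
    exact ⟨φ w, by rw [hδ, hδ, map_div]⟩
  have horth : ∀ u ∈ δ.ker, ∀ w ∈ δ.range, χ u w = 1 := by
    rintro u hu _ ⟨w, rfl⟩
    rw [hδ, map_div, div_eq_one]
    conv_lhs => rw [← (hfix0 u).mp hu]
    exact hφ u w
  have hsup : δ.ker ⊔ δ.range = ⊤ := by
    have hd : Disjoint δ.ker δ.range := Subgroup.disjoint_def.mpr fun {u} hu hu' =>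
      hdis u hu' ((hfix0 u).mp hu)
    have hc : Nat.card δ.ker * Nat.card δ.range = Nat.card W := by
      rw [← Subgroup.index_ker, Subgroup.card_mul_index]
    exact (Subgroup.isComplement'_of_card_mul_and_disjoint hc hd).sup_eq_top
  let χ' : δ.range →* δ.range →* Fˣ :=
    { toFun := fun u => (χ u).comp δ.range.subtype
      map_one' := by ext; simp
      map_mul' := fun u w => by ext; simp }
  obtain ⟨i, hi⟩ := CfsgLib.TransitiveSolvable.isSquare_card_of_pairing (Nat.card δ.range) δ.range
    le_rfl χ' (fun u => halt u) (fun u hu => Subtype.ext (hnd u fun x => by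
      have hle : δ.ker ⊔ δ.range ≤ (χ (u : W)).ker := sup_le
        (fun k hk => by rw [MonoidHom.mem_ker, hcomm k u, horth k hk u u.2, inv_one])
        (fun k hk => hu ⟨k, hk⟩)
      exact hle (hsup ▸ Subgroup.mem_top x)))
  have hi2 : 2 ≤ i := by
    by_contra hlt
    have h1 : Nat.card δ.range = 1 := by
      have h0 := Nat.card_pos (α := δ.range)
      interval_cases i <;> omega
    apply hne
    refine MulEquiv.ext fun w => ?_
    have : δ w ∈ (⊥ : Subgroup W) := Subgroup.card_eq_one.mp h1 ▸ ⟨w, rfl⟩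
    rw [Subgroup.mem_bot, hδ, div_eq_one] at this
    exact this
  let f : δ.range → δ.range := fun u => ⟨φ u, hinv u u.2⟩
  have hmod : Nat.card δ.range ≡ 1 [MOD r] := by
    let _ : SMul (Subgroup.zpowers φ) δ.range :=
      ⟨fun g u => ⟨g.1 u.1, by
        obtain ⟨g, hg⟩ := g
        obtain ⟨k, rfl⟩ := mem_powers_iff_mem_zpowers.mpr hg
        dsimp only
        induction k with
        | zero => simpa using u.2
        | succ k ih =>
          rw [pow_succ', MulAut.mul_apply]
          exact hinv _ (ih (mem_powers_iff_mem_zpowers.mp ⟨k, rfl⟩))⟩⟩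
    let act : MulAction (Subgroup.zpowers φ) δ.range :=
      { one_smul := fun u => Subtype.ext rfl
        mul_smul := fun g h u => Subtype.ext rfl }
    have hp : IsPGroup r (Subgroup.zpowers φ) := IsPGroup.of_card (n := 1) (by
      rw [Nat.card_zpowers, pow_one, orderOf_eq_prime hrφ hne])
    have hfp : MulAction.fixedPoints (Subgroup.zpowers φ) δ.range = {1} := by
      ext u
      rw [MulAction.mem_fixedPoints, Set.mem_singleton_iff]
      refine ⟨fun h => Subtype.ext (hdis u u.2
        (congrArg Subtype.val (h ⟨φ, Subgroup.mem_zpowers φ⟩))), ?_⟩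
      rintro rfl g
      exact Subtype.ext (map_one g.1)
    have := hp.card_modEq_card_fixedPoints δ.range
    rwa [hfp, Nat.card_coe_set_eq, Set.ncard_singleton] at this
  have hle : i ≤ j := by
    have h1 : i * i ≤ j * j := by
      rw [← hi, ← hj]
      exact Nat.le_of_dvd Nat.card_pos (Subgroup.card_subgroup_dvd_card _)
    exact Nat.mul_self_le_mul_self_iff.mp h1
  have hdvd : r ∣ (i + 1) * (i - 1) := by
    rw [← Nat.mul_self_sub_mul_self_eq, mul_one, ← hi]
    exact (Nat.modEq_iff_dvd' Nat.card_pos).mp hmod.symm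
  rcases hr.dvd_mul.mp hdvd with h | h
  · exact (Nat.le_of_dvd (by omega) h).trans (by omega)
  · exact (Nat.le_of_dvd (by omega) h).trans (by omega)

/-- Order of `q` modulo an odd prime dividing `q ^ 2 ^ k + 1`. -/
theorem orderOf_of_dvd_pow_two_add_one {q p k : ℕ} (hp : p.Prime) (hp2 : p ≠ 2)
    (h : p ∣ q ^ (2 ^ k) + 1) : orderOf (q : ZMod p) = 2 ^ (k + 1) := by
  have : Fact p.Prime := ⟨hp⟩
  have : Fact (Nat.Prime 2) := ⟨Nat.prime_two⟩
  have : Fact (2 < p) := ⟨by have := hp.two_le; omega⟩
  have h1 : (q : ZMod p) ^ (2 ^ k) = -1 := by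
    rw [eq_neg_iff_add_eq_zero]
    have := (ZMod.natCast_eq_zero_iff _ p).mpr h
    push_cast at this
    exact this
  refine orderOf_eq_prime_pow ?_ ?_
  · rw [h1]; exact ZMod.neg_one_ne_one
  · rw [pow_succ, pow_mul, h1, neg_one_sq]

/-- The automorphism group of an elementary abelian `2`-group. -/
theorem card_mulAut_elementary {W : Type*} [CommGroup W] [Finite W] {k : ℕ}
    (hW : Nat.card W = 2 ^ k) (h2 : ∀ w : W, w * w = 1) :
    Nat.card (MulAut W) = ∏ i : Fin k, (2 ^ k - 2 ^ (i : ℕ)) := by
  classical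
  letI : Module (ZMod 2) (Additive W) := AddCommGroup.zmodModule (fun w => by
    rw [two_nsmul]; exact h2 w.toMul)
  have : Module.Finite (ZMod 2) (Additive W) := Module.Finite.of_finite
  have hfr : Module.finrank (ZMod 2) (Additive W) = k := by
    have h := Module.natCard_eq_pow_finrank (K := ZMod 2) (V := Additive W)
    rw [Nat.card_congr Additive.toMul, hW, Nat.card_zmod] at h
    exact Nat.pow_right_injective le_rfl h.symm
  let b := Module.finBasisOfFinrankEq (ZMod 2) (Additive W) hfr
  let e1 : MulAut W ≃ (Additive W ≃ₗ[ZMod 2] Additive W) :=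
    { toFun := fun f => (MulEquiv.toAdditive f).toLinearEquiv fun c x =>
        ZMod.map_smul (MulEquiv.toAdditive f).toAddMonoidHom c x
      invFun := fun f => MulEquiv.toAdditive.symm f.toAddEquiv
      left_inv := fun f => MulEquiv.ext fun _ => rfl
      right_inv := fun f => LinearEquiv.ext fun _ => rfl }
  rw [Nat.card_congr e1, Nat.card_congr
      ((LinearMap.GeneralLinearGroup.generalLinearEquiv (ZMod 2) (Additive W)).symm.trans
        (Units.mapEquiv (LinearMap.toMatrixAlgEquiv b).toMulEquiv)).toEquiv, Matrix.card_GL_field,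
    ZMod.card]

end CfsgLib.TransLinear
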