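import Mathlib

/-! Transitive linear groups over a prime field: the field of a normal abelian subgroup. -/

namespace CfsgLib.TransLinear

open Subgroup

variable {q : ℕ} [Fact q.Prime] {V : Type*} [AddCommGroup V] [Module (ZMod q) V] [Finite V]
  {G : Type*} [Group G] (ρ : G →* (V ≃ₗ[ZMod q] V))

/-- The action as endomorphisms. -/
def act : G →* Module.End (ZMod q) V where
  toFun g := ((ρ g : V ≃ₗ[ZMod q] V) : V →ₗ[ZMod q] V)
  map_one' := by rw [map_one]; rfl
  map_mul' _ _ := by rw [map_mul]; rfl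

@[simp] theorem act_apply (g : G) (v : V) : act ρ g v = ρ g v := rfl

theorem act_injective (hρ : Function.Injective ρ) : Function.Injective (act ρ) := fun _ _ he =>
  hρ (LinearEquiv.toLinearMap_injective he)

theorem act_mul_inv (g : G) : act ρ g * act ρ g⁻¹ = 1 := by
  rw [← map_mul, mul_inv_cancel, map_one]

theorem act_inv_mul (g : G) : act ρ g⁻¹ * act ρ g = 1 := by
  rw [← map_mul, inv_mul_cancel, map_one]

instance : Finite (Module.End (ZMod q) V) :=
  Finite.of_injective (fun f : Module.End (ZMod q) V => (f : V → V)) DFunLike.coe_injective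

/-- The algebra generated by a subgroup. -/
def alg (A : Subgroup G) : Subalgebra (ZMod q) (Module.End (ZMod q) V) :=
  Algebra.adjoin (ZMod q) (act ρ '' (A : Set G))

/-- The degree of that algebra. -/
noncomputable def deg (A : Subgroup G) : ℕ := Module.finrank (ZMod q) (alg ρ A)

variable {ρ} {A : Subgroup G}

theorem act_mem {a : G} (ha : a ∈ A) : act ρ a ∈ alg ρ A := Algebra.subset_adjoin ⟨a, ha, rfl⟩

theorem commute_alg {g : G} (hg : g ∈ centralizer (A : Set G)) {r : Module.End (ZMod q) V}
    (hr : r ∈ alg ρ A) : Commute (act ρ g) r := by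
  induction hr using Algebra.adjoin_induction with
  | mem x hx =>
    obtain ⟨a, ha, rfl⟩ := hx
    show _ = _
    rw [← map_mul, ← map_mul, mem_centralizer_iff.mp hg a ha]
  | algebraMap c => exact (Algebra.commutes c _).symm
  | add x y _ _ hx hy => exact hx.add_right hy
  | mul x y _ _ hx hy => exact hx.mul_right hy

theorem alg_comm (hAc : IsMulCommutative A) {r s : Module.End (ZMod q) V} (hr : r ∈ alg ρ A)
    (hs : s ∈ alg ρ A) : r * s = s * r := by
  induction hr using Algebra.adjoin_induction with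
  | mem x hx =>
    obtain ⟨a, ha, rfl⟩ := hx
    exact commute_alg (mem_centralizer_iff.mpr fun b hb =>
      congrArg Subtype.val (hAc.is_comm.comm (⟨b, hb⟩ : A) ⟨a, ha⟩)) hs
  | algebraMap c => exact Algebra.commutes c _
  | add x y _ _ hx hy => exact (Commute.add_left hx hy)
  | mul x y _ _ hx hy => exact (Commute.mul_left hx hy)

theorem alg_conj (hAn : A.Normal) (g : G) {r : Module.End (ZMod q) V} (hr : r ∈ alg ρ A) :
    act ρ g * r * act ρ g⁻¹ ∈ alg ρ A := by
  induction hr using Algebra.adjoin_induction with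
  | mem x hx =>
    obtain ⟨a, ha, rfl⟩ := hx
    rw [← map_mul, ← map_mul]
    exact act_mem (hAn.conj_mem a ha g)
  | algebraMap c =>
    rw [← Algebra.commutes, mul_assoc, act_mul_inv, mul_one]
    exact Subalgebra.algebraMap_mem _ c
  | add x y _ _ hx hy => rw [mul_add, add_mul]; exact add_mem hx hy
  | mul x y _ _ hx hy =>
    have e : act ρ g * (x * y) * act ρ g⁻¹ =
        (act ρ g * x * act ρ g⁻¹) * (act ρ g * y * act ρ g⁻¹) := by
      simp only [mul_assoc]
      rw [← mul_assoc (act ρ g⁻¹) (act ρ g), act_inv_mul, one_mul]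
    rw [e]
    exact mul_mem hx hy

/-- Transitive on the nonzero vectors. -/
def Trans (ρ : G →* (V ≃ₗ[ZMod q] V)) : Prop := ∀ v w : V, v ≠ 0 → w ≠ 0 → ∃ g : G, ρ g v = w

theorem exists_apply_eq (htr : Trans ρ) (hAn : A.Normal) {v : V} (hv : v ≠ 0)
    {r : Module.End (ZMod q) V} (hr : r ∈ alg ρ A) (hrv : r v ≠ 0) :
    ∃ s ∈ alg ρ A, s (r v) = v := by
  let O : V → Set V := fun w => (fun s : Module.End (ZMod q) V => s w) '' (alg ρ A : Set _)
  obtain ⟨w, hw, hmin⟩ := Set.exists_min_image {w : V | w ≠ 0} (fun w => (O w).ncard)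
    (Set.toFinite _) ⟨v, hv⟩
  have key : ∀ r ∈ alg ρ A, r w ≠ 0 → ∃ s ∈ alg ρ A, s (r w) = w := by
    intro r hr hrw
    have hsub : O (r w) ⊆ O w := by
      rintro _ ⟨s, hs, rfl⟩
      exact ⟨s * r, mul_mem hs hr, rfl⟩
    have := Set.eq_of_subset_of_ncard_le hsub (hmin _ hrw) (Set.toFinite _)
    have hw' : w ∈ O w := ⟨1, one_mem _, rfl⟩
    rw [← this] at hw'
    exact hw'
  obtain ⟨g, hg⟩ := htr w v hw hv
  set r' := act ρ g⁻¹ * r * act ρ g⁻¹⁻¹ with hr'
  have e : r (act ρ g w) = act ρ g (r' w) := by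
    rw [← Module.End.mul_apply, ← Module.End.mul_apply, hr', inv_inv, ← mul_assoc, ← mul_assoc,
      act_mul_inv, one_mul]
  have hv' : act ρ g w = v := hg
  have hne : r' w ≠ 0 := fun h0 => hrv (by rw [← hv', e, h0, map_zero])
  obtain ⟨s, hs, hs'⟩ := key r' (alg_conj hAn g⁻¹ hr) hne
  refine ⟨act ρ g * s * act ρ g⁻¹, alg_conj hAn g hs, ?_⟩
  rw [← hv', e, Module.End.mul_apply, ← Module.End.mul_apply (f := act ρ g⁻¹), act_inv_mul,
    Module.End.one_apply, Module.End.mul_apply, hs']

theorem eq_zero_of_apply (htr : Trans ρ) (hAn : A.Normal) (hAc : IsMulCommutative A)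
    {r : Module.End (ZMod q) V} (hr : r ∈ alg ρ A) {v : V} (hv : v ≠ 0) (h0 : r v = 0) : r = 0 := by
  refine LinearMap.ext fun w => ?_
  by_contra hw
  rw [LinearMap.zero_apply] at hw
  have hw0 : w ≠ 0 := fun h => hw (by rw [h, map_zero])
  obtain ⟨s, hs, hsw⟩ := exists_apply_eq htr hAn hw0 hr hw
  set t := v + w with ht
  have hrt : r t = r w := by rw [ht, map_add, h0, zero_add]
  have ht0 : t ≠ 0 := fun h => hw (by rw [← hrt, h, map_zero])
  have hq : (1 - s * r) t = v := by
    rw [LinearMap.sub_apply, Module.End.one_apply, Module.End.mul_apply, hrt, hsw, ht,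
      add_sub_cancel_right]
  obtain ⟨u, hu, huv⟩ := exists_apply_eq htr hAn ht0 (sub_mem (one_mem _) (mul_mem hs hr))
    (hq ▸ hv)
  apply hw
  rw [← hrt, ← huv, hq, ← Module.End.mul_apply, alg_comm hAc hr hu, Module.End.mul_apply, h0,
    map_zero]

theorem alg_isField (htr : Trans ρ) (hAn : A.Normal) (hAc : IsMulCommutative A) [Nontrivial V] :
    IsField (alg ρ A) := by
  obtain ⟨v, hv⟩ := exists_ne (0 : V)
  refine ⟨⟨0, 1, fun h => hv ?_⟩, fun r s => Subtype.ext (alg_comm hAc r.2 s.2), fun {r} hr => ?_⟩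
  · have := congrArg (fun x : alg ρ A => (x : Module.End (ZMod q) V) v) h
    simpa using this.symm
  · have hinj : Function.Injective fun s : alg ρ A => r * s := by
      intro s t hst
      have h1 : (r : Module.End (ZMod q) V)
          (((s - t : alg ρ A) : Module.End (ZMod q) V) v) = 0 := by
        have := congrArg (fun x : alg ρ A => (x : Module.End (ZMod q) V) v) hst
        simpa [sub_eq_zero] using this
      refine sub_eq_zero.mp (Subtype.ext ?_)
      by_cases h2 : ((s - t : alg ρ A) : Module.End (ZMod q) V) v = 0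
      · exact eq_zero_of_apply htr hAn hAc (s - t).2 hv h2
      · exact absurd (Subtype.ext (eq_zero_of_apply htr hAn hAc r.2 h2 h1)) hr
    exact Finite.injective_iff_surjective.mp hinj 1

/-- Conjugation on the field of a normal abelian subgroup. -/
theorem exists_conjHom (hAn : A.Normal) :
    ∃ ψ : G →* (alg ρ A ≃ₐ[ZMod q] alg ρ A),
      (∀ g r, ((ψ g r : alg ρ A) : Module.End (ZMod q) V) = act ρ g * r.1 * act ρ g⁻¹) ∧
      (Function.Injective ρ → ψ.ker = centralizer (A : Set G)) := by
  refine ⟨{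
        toFun := fun g =>
          { toFun := fun r => ⟨act ρ g * r.1 * act ρ g⁻¹, alg_conj hAn g r.2⟩
            invFun := fun r => ⟨act ρ g⁻¹ * r.1 * act ρ g, by
              have := alg_conj hAn g⁻¹ r.2
              rwa [inv_inv] at this⟩
            left_inv := fun r => Subtype.ext (by
              show act ρ g⁻¹ * (act ρ g * r.1 * act ρ g⁻¹) * act ρ g = r.1
              rw [← mul_assoc, ← mul_assoc, act_inv_mul, one_mul, mul_assoc, act_inv_mul, mul_one])
            right_inv := fun r => Subtype.ext (by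
              show act ρ g * (act ρ g⁻¹ * r.1 * act ρ g) * act ρ g⁻¹ = r.1
              rw [← mul_assoc, ← mul_assoc, act_mul_inv, one_mul, mul_assoc, act_mul_inv, mul_one])
            map_mul' := fun r s => Subtype.ext (by
              show act ρ g * (r.1 * s.1) * act ρ g⁻¹ = _ * _
              simp only [mul_assoc]
              rw [← mul_assoc (act ρ g⁻¹) (act ρ g), act_inv_mul, one_mul])
            map_add' := fun r s => Subtype.ext (by
              show act ρ g * (r.1 + s.1) * act ρ g⁻¹ = _ + _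
              rw [mul_add, add_mul])
            commutes' := fun c => Subtype.ext (by
              show act ρ g * algebraMap _ _ c * act ρ g⁻¹ = algebraMap _ _ c
              rw [← Algebra.commutes, mul_assoc, act_mul_inv, mul_one]) }
        map_one' := AlgEquiv.ext fun r => Subtype.ext (by
          show act ρ 1 * r.1 * act ρ 1⁻¹ = r.1
          simp)
        map_mul' := fun g h => AlgEquiv.ext fun r => Subtype.ext (by
          show act ρ (g * h) * r.1 * act ρ (g * h)⁻¹ =
            act ρ g * (act ρ h * r.1 * act ρ h⁻¹) * act ρ g⁻¹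
          rw [mul_inv_rev, map_mul, map_mul]
          simp only [mul_assoc]) }, fun g r => rfl, fun hρ => ?_⟩
  ext h
  rw [MonoidHom.mem_ker]
  constructor
  · intro hh
    refine mem_centralizer_iff.mpr fun a ha => act_injective ρ hρ ?_
    have h1 : act ρ h * act ρ a * act ρ h⁻¹ = act ρ a :=
      congrArg (fun e : alg ρ A ≃ₐ[ZMod q] alg ρ A => (e ⟨act ρ a, act_mem ha⟩).1) hh
    rw [map_mul, map_mul]
    conv_lhs => rw [← h1, mul_assoc, act_inv_mul, mul_one]
  · intro hh
    refine AlgEquiv.ext fun r => Subtype.ext ?_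
    show act ρ h * r.1 * act ρ h⁻¹ = r.1
    rw [(commute_alg hh r.2).eq, mul_assoc, act_mul_inv, mul_one]

/-- The index of the centraliser divides the degree, the subgroup has order dividing `q ^ a - 1`. -/
theorem index_and_card (hρ : Function.Injective ρ) (htr : Trans ρ) [Nontrivial V] [Finite G]
    (hAn : A.Normal) (hAc : IsMulCommutative A) :
    0 < deg ρ A ∧ Nat.card A ∣ q ^ deg ρ A - 1 ∧
      (centralizer (A : Set G)).index ∣ deg ρ A := by
  letI : Field (alg ρ A) := (alg_isField htr hAn hAc).toField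
  let f : A →* alg ρ A :=
    { toFun := fun a => ⟨act ρ a, act_mem a.2⟩
      map_one' := Subtype.ext (map_one _)
      map_mul' := fun a b => Subtype.ext (map_mul (act ρ) (a : G) b) }
  have hf : Function.Injective f := fun a b he =>
    Subtype.ext (act_injective ρ hρ (congrArg Subtype.val he))
  refine ⟨Module.finrank_pos, ?_, ?_⟩
  · have h1 : Nat.card A ∣ Nat.card (alg ρ A)ˣ := Subgroup.card_dvd_of_injective f.toHomUnits
      fun a b he => hf (congrArg Units.val he)
    rwa [Nat.card_units, Module.natCard_eq_pow_finrank (K := ZMod q) (V := alg ρ A),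
      Nat.card_zmod] at h1
  · obtain ⟨ψ, -, hker⟩ := exists_conjHom (ρ := ρ) hAn
    rw [← hker hρ, index_ker]
    exact (Subgroup.card_subgroup_dvd_card ψ.range).trans
      (IsGalois.card_aut_eq_finrank (ZMod q) (alg ρ A)).dvd

/-- If the degree is the dimension, the group is semilinear of dimension one. -/
theorem semilinear_of_deg (htr : Trans ρ) [Nontrivial V] (hAn : A.Normal)
    (hAc : IsMulCommutative A) (hdeg : Module.finrank (ZMod q) V ≤ deg ρ A) :
    ∃ (F : Type) (_ : Field F) (_ : Fintype F) (e : V ≃+ F),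
      ∀ g : G, ∃ (a : F) (σ : F ≃+* F), ∀ v : V, e (ρ g v) = a * σ (e v) := by
  classical
  letI : Field (alg ρ A) := (alg_isField htr hAn hAc).toField
  have : Finite (alg ρ A) := Subtype.finite
  letI : Fintype (alg ρ A) := Fintype.ofFinite _
  obtain ⟨v, hv⟩ := exists_ne (0 : V)
  let ev : alg ρ A →ₗ[ZMod q] V :=
    { toFun := fun r => (r : Module.End (ZMod q) V) v
      map_add' := fun _ _ => rfl
      map_smul' := fun _ _ => rfl }
  have hev : Function.Injective ev := by
    rw [← LinearMap.ker_eq_bot, LinearMap.ker_eq_bot']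
    exact fun r hr => Subtype.ext (eq_zero_of_apply htr hAn hAc r.2 hv hr)
  have hsurj : Function.Surjective ev := LinearMap.range_eq_top.mp
    (Submodule.eq_top_of_finrank_eq (le_antisymm (Submodule.finrank_le _)
      (by rw [LinearMap.finrank_range_of_inj hev]; exact hdeg)))
  let E : alg ρ A ≃ₗ[ZMod q] V := LinearEquiv.ofBijective ev ⟨hev, hsurj⟩
  obtain ⟨ψ, hψ, -⟩ := exists_conjHom (ρ := ρ) hAn
  let α : G → alg ρ A := fun h => E.symm (act ρ h v)
  have hα : ∀ h, (α h).1 v = act ρ h v := fun h => E.apply_symm_apply _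
  have hact : ∀ (h : G) (r : alg ρ A), act ρ h (E r) = E (α h * ψ h r) := by
    intro h r
    show act ρ h (r.1 v) = (α h * ψ h r).1 v
    rw [mul_comm, Subalgebra.coe_mul, Module.End.mul_apply, hα, hψ, Module.End.mul_apply,
      Module.End.mul_apply, ← Module.End.mul_apply (f := act ρ h⁻¹), act_inv_mul,
      Module.End.one_apply]
  have hn : Module.finrank (ZMod q) (alg ρ A) ≠ 0 := Module.finrank_pos.ne'
  letI : Fintype (GaloisField q (Module.finrank (ZMod q) (alg ρ A))) := Fintype.ofFinite _
  let φ : alg ρ A ≃+* GaloisField q (Module.finrank (ZMod q) (alg ρ A)) :=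
    FiniteField.ringEquivOfCardEq (by
      rw [← Nat.card_eq_fintype_card, ← Nat.card_eq_fintype_card, GaloisField.card q _ hn,
        Module.natCard_eq_pow_finrank (K := ZMod q) (V := alg ρ A), Nat.card_zmod])
  refine ⟨GaloisField q (Module.finrank (ZMod q) (alg ρ A)), inferInstance, inferInstance,
    E.symm.toAddEquiv.trans φ.toAddEquiv, fun h => ⟨φ (α h),
      (φ.symm.trans (ψ h).toRingEquiv).trans φ, fun w => ?_⟩⟩
  obtain ⟨r, rfl⟩ := E.surjective w
  show φ (E.symm (act ρ h (E r))) = φ (α h) * φ (ψ h (φ.symm (φ (E.symm (E r)))))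
  rw [hact, E.symm_apply_apply, E.symm_apply_apply, φ.symm_apply_apply, map_mul]

/-- An element of prime order a primitive prime divisor is irreducible. -/
theorem irreducible_of_ppd {g : G} {r : ℕ} (hr : r.Prime) (hg : act ρ g ^ r = 1)
    (hne : act ρ g ≠ 1) (hq : ¬ r ∣ q)
    (hppd : ∀ j, 0 < j → j < Module.finrank (ZMod q) V → ¬ r ∣ q ^ j - 1)
    (U : Submodule (ZMod q) V) (hU : ∀ w ∈ U, act ρ g w ∈ U) : U = ⊥ ∨ U = ⊤ := by
  classical
  have : Fact r.Prime := ⟨hr⟩
  have : Finite (V ≃ₗ[ZMod q] V) :=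
    Finite.of_injective _ (LinearEquiv.toLinearMap_injective)
  have hp : IsPGroup r (zpowers (ρ g)) := by
    refine IsPGroup.of_card (n := 1) ?_
    rw [Nat.card_zpowers, pow_one]
    refine orderOf_eq_prime ?_ ?_
    · refine LinearEquiv.toLinearMap_injective ?_
      show ((ρ g ^ r : V ≃ₗ[ZMod q] V) : V →ₗ[ZMod q] V) = 1
      rw [← hg, ← map_pow, ← map_pow]; rfl
    · intro h
      exact hne (LinearMap.ext fun w => by rw [act_apply, h]; rfl)
  have key : ∀ (X : Submodule (ZMod q) V), (∀ w ∈ X, act ρ g w ∈ X) →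
      Nat.card X ≡ Nat.card {w : X // ρ g w.1 = w.1} [MOD r] := by
    intro X hX
    have hmem : ∀ t : zpowers (ρ g), ∀ w ∈ X, (t : V ≃ₗ[ZMod q] V) w ∈ X := by
      rintro ⟨_, k, rfl⟩ w hw
      show ((ρ g) ^ k) w ∈ X
      obtain ⟨m, hm⟩ := mem_powers_iff_mem_zpowers.mpr (⟨k, rfl⟩ : (ρ g) ^ k ∈ zpowers (ρ g))
      rw [← hm]
      clear hm
      induction m with
      | zero => simpa using hw
      | succ m ih => show ((ρ g) ^ (m + 1)) w ∈ X; rw [pow_succ']; exact hX _ ih
    let _ : SMul (zpowers (ρ g)) X := ⟨fun t w => ⟨(t : V ≃ₗ[ZMod q] V) w.1, hmem t _ w.2⟩⟩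
    let act' : MulAction (zpowers (ρ g)) X :=
      { one_smul := fun w => Subtype.ext rfl
        mul_smul := fun t u w => Subtype.ext rfl }
    refine (hp.card_modEq_card_fixedPoints X).trans ?_
    refine (fun {a b : ℕ} (h : a = b) => (h ▸ rfl : a ≡ b [MOD r]))
      (Nat.card_congr (Equiv.subtypeEquivRight fun w => ?_))
    rw [MulAction.mem_fixedPoints]
    constructor
    · intro h; exact congrArg Subtype.val (h ⟨ρ g, mem_zpowers _⟩)
    · intro h t
      refine Subtype.ext ?_
      show (t : V ≃ₗ[ZMod q] V) w.1 = w.1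
      have : zpowers (ρ g) ≤ MulAction.stabilizer (V ≃ₗ[ZMod q] V) w.1 := zpowers_le.mpr h
      exact this t.2
  let Fx : Submodule (ZMod q) V := LinearMap.ker (act ρ g - 1)
  have hFx : ∀ w, w ∈ Fx ↔ ρ g w = w := fun w => by
    rw [LinearMap.mem_ker, LinearMap.sub_apply, Module.End.one_apply, sub_eq_zero, act_apply]
  have key' : ∀ X : Submodule (ZMod q) V, (∀ w ∈ X, act ρ g w ∈ X) →
      q ^ Module.finrank (ZMod q) X ≡ q ^ Module.finrank (ZMod q) ↥(X ⊓ Fx) [MOD r] := by
    intro X hX
    have h1 := key X hX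
    have e : Nat.card {w : X // ρ g w.1 = w.1} = Nat.card ↥(X ⊓ Fx) :=
      Nat.card_congr ((Equiv.subtypeSubtypeEquivSubtypeInter (· ∈ X) (fun w => ρ g w = w)).trans
        (Equiv.subtypeEquivRight fun w => by rw [Submodule.mem_inf, hFx]))
    rwa [e, Module.natCard_eq_pow_finrank (K := ZMod q) (V := X),
      Module.natCard_eq_pow_finrank (K := ZMod q) (V := ↥(X ⊓ Fx)), Nat.card_zmod] at h1
  have hstep : ∀ d e, e ≤ d → d - e < Module.finrank (ZMod q) V → q ^ d ≡ q ^ e [MOD r] → d = e := by
    intro d e hed hlt hmod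
    by_contra hne'
    have h1 : r ∣ q ^ d - q ^ e :=
      (Nat.modEq_iff_dvd' (Nat.pow_le_pow_right (Fact.out : q.Prime).pos hed)).mp hmod.symm
    have e2 : q ^ d - q ^ e = q ^ e * (q ^ (d - e) - 1) := by
      rw [Nat.mul_sub_one, ← pow_add, Nat.add_sub_cancel' hed]
    rw [e2] at h1
    rcases hr.dvd_mul.mp h1 with h | h
    · exact hq (hr.dvd_of_dvd_pow h)
    · exact hppd _ (by omega) hlt h
  have hlt : Module.finrank (ZMod q) Fx < Module.finrank (ZMod q) V := by
    refine Submodule.finrank_lt fun h => hne ?_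
    refine LinearMap.ext fun w => ?_
    rw [act_apply, Module.End.one_apply]
    exact (hFx w).mp (h ▸ Submodule.mem_top)
  have hbot : Fx = ⊥ := by
    by_contra hFne
    have hpos : 0 < Module.finrank (ZMod q) Fx := by
      have h0 : Module.finrank (ZMod q) Fx ≠ 0 := fun h => hFne (Submodule.finrank_eq_zero.mp h)
      omega
    have h2 := key' ⊤ (fun _ _ => Submodule.mem_top)
    rw [top_inf_eq, finrank_top] at h2
    have h3 := hstep _ _ hlt.le (by omega) h2
    omega
  by_contra hcon
  rw [not_or] at hcon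
  have hUlt := Submodule.finrank_lt hcon.2
  have h2 := key' U hU
  rw [hbot, inf_bot_eq, finrank_bot] at h2
  have := hstep _ _ (Nat.zero_le _) (by omega) h2
  exact hcon.1 (Submodule.finrank_eq_zero.mp this)

end CfsgLib.TransLinear
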