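import Cfsg.Agent.Lib.TransLinear.Field
import Cfsg.Agent.Lib.TransLinear.Twist

/-! A layer above a maximal normal abelian subgroup of a transitive solvable linear group. -/

namespace CfsgLib.TransLinear

open Subgroup
open scoped commutatorElement

section Group

variable {G : Type*} [Group G]

/-- A normal subgroup of class two and exponent `s` over `A`, inside the centraliser of `A`. -/
structure Layer (A N : Subgroup G) (s : ℕ) : Prop where
  prime : s.Prime
  normal : N.Normal
  le : A ≤ N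
  le_cent : N ≤ centralizer (A : Set G)
  comm : ∀ x ∈ N, ∀ y ∈ N, ⁅x, y⁆ ∈ A
  pow : ∀ x ∈ N, x ^ s ∈ A
  cent : ∀ x ∈ N, (∀ y ∈ N, y * x = x * y) → x ∈ A
  not_le : ¬ N ≤ A

/-- Maximal among normal abelian subgroups. -/
def IsMaxAb (A : Subgroup G) : Prop :=
  ∀ B : Subgroup G, B.Normal → IsMulCommutative B → A ≤ B → B = A

theorem exists_maxAb [Finite G] : ∃ A : Subgroup G, A.Normal ∧ IsMulCommutative A ∧ IsMaxAb A := by
  obtain ⟨A, ⟨hAn, hAc⟩, hmax⟩ := Set.exists_max_image
    {A : Subgroup G | A.Normal ∧ IsMulCommutative A} (fun A => Nat.card A) (Set.toFinite _)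
    ⟨⊥, inferInstance, inferInstance⟩
  exact ⟨A, hAn, hAc, fun B hB1 hB2 hle =>
    (Subgroup.eq_of_le_of_card_ge hle (hmax B ⟨hB1, hB2⟩)).symm⟩

theorem le_centralizer_self {A : Subgroup G} (hAc : IsMulCommutative A) :
    A ≤ centralizer (A : Set G) := fun a ha => mem_centralizer_iff.mpr fun b hb =>
  congrArg Subtype.val (hAc.is_comm.comm (⟨b, hb⟩ : A) ⟨a, ha⟩)

/-- The centre of the centraliser is `A`. -/
theorem mem_of_center {A : Subgroup G} (hAn : A.Normal) (hAc : IsMulCommutative A)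
    (hmax : IsMaxAb A) {z : G} (hz : z ∈ centralizer (A : Set G))
    (h : ∀ c ∈ centralizer (A : Set G), c * z = z * c) : z ∈ A := by
  set C := centralizer (A : Set G) with hC
  have hB := hmax (C ⊓ centralizer (C : Set G)) inferInstance
    ⟨⟨fun a b => Subtype.ext (mem_centralizer_iff.mp b.2.2 a a.2.1)⟩⟩
    (le_inf (le_centralizer_self hAc) fun a ha => mem_centralizer_iff.mpr fun c hc =>
      (mem_centralizer_iff.mp hc a ha).symm)
  exact hB ▸ ⟨hz, mem_centralizer_iff.mpr h⟩

theorem exists_layer [Finite G] (hsol : Group.IsSolvable G) {A : Subgroup G} (hAn : A.Normal)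
    (hAc : IsMulCommutative A) (hmax : IsMaxAb A) (hne : centralizer (A : Set G) ≠ A) :
    ∃ N s, Layer A N s := by
  classical
  set C := centralizer (A : Set G) with hC
  have hCA : ¬ C ≤ A := fun h => hne (le_antisymm h (le_centralizer_self hAc))
  obtain ⟨M, ⟨hMn, hAM, hMC, hMA⟩, hmin⟩ := Set.exists_min_image
    {M : Subgroup G | M.Normal ∧ A ≤ M ∧ M ≤ C ∧ ¬ M ≤ A} (fun M => Nat.card M) (Set.toFinite _)
    ⟨C, inferInstance, le_centralizer_self hAc, le_rfl, hCA⟩
  set π := QuotientGroup.mk' A with hπ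
  have hcomm : ⁅M, M⁆ ≤ A := by
    by_contra hnot
    have hK : (⁅M, M⁆ ⊔ A : Subgroup G) = M := Subgroup.eq_of_le_of_card_ge
      (sup_le (Subgroup.commutator_le_left M M) hAM)
      (hmin _ ⟨inferInstance, le_sup_right,
        (sup_le (Subgroup.commutator_le_left M M) hAM).trans hMC,
        fun h => hnot (le_sup_left.trans h)⟩)
    have hmap := congrArg (Subgroup.map π) hK
    rw [Subgroup.map_sup, Subgroup.map_commutator,
      (Subgroup.map_eq_bot_iff A).mpr (by rw [hπ, QuotientGroup.ker_mk']), sup_bot_eq] at hmap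
    have hbot : M.map π = ⊥ := by
      by_contra hb
      exact (Group.IsSolvable.commutator_lt_of_ne_bot hb).ne hmap
    rw [Subgroup.map_eq_bot_iff, hπ, QuotientGroup.ker_mk'] at hbot
    exact hMA hbot
  have hcm : ∀ x ∈ M, ∀ y ∈ M, π x * π y = π y * π x := fun x hx y hy => by
    rw [← commutatorElement_eq_one_iff_mul_comm, ← map_commutatorElement, hπ,
      QuotientGroup.mk'_apply, QuotientGroup.eq_one_iff]
    exact hcomm (commutator_mem_commutator hx hy)
  obtain ⟨s, hs, hsd⟩ := Nat.exists_prime_and_dvd (n := Nat.card (M.map π)) (fun h => hMA (by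
    have := Subgroup.card_eq_one.mp h
    rwa [Subgroup.map_eq_bot_iff, hπ, QuotientGroup.ker_mk'] at this))
  have : Fact s.Prime := ⟨hs⟩
  obtain ⟨⟨w, hw⟩, hwo⟩ := exists_prime_orderOf_dvd_card' (G := M.map π) s hsd
  obtain ⟨x, hxM, rfl⟩ := id hw
  let T : Subgroup G :=
    { carrier := {y | y ∈ M ∧ (π y) ^ s = 1}
      one_mem' := ⟨one_mem M, by rw [map_one, one_pow]⟩
      mul_mem' := fun {a b} ha hb => ⟨mul_mem ha.1 hb.1, by
        rw [map_mul, (show Commute (π a) (π b) from hcm a ha.1 b hb.1).mul_pow, ha.2, hb.2, one_mul]⟩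
      inv_mem' := fun {a} ha => ⟨inv_mem ha.1, by rw [map_inv, inv_pow, ha.2, inv_one]⟩ }
  have hTn : T.Normal := ⟨fun y hy g => ⟨hMn.conj_mem y hy.1 g, by
    rw [map_mul, map_mul, map_inv, conj_pow, hy.2, mul_one, mul_inv_cancel]⟩⟩
  have hAT : A ≤ T := fun a ha => ⟨hAM ha, by
    rw [hπ, QuotientGroup.mk'_apply, (QuotientGroup.eq_one_iff a).mpr ha, one_pow]⟩
  have hTA : ¬ T ≤ A := by
    intro h
    have hxT : x ∈ T := by
      refine ⟨hxM, ?_⟩
      rw [← orderOf_dvd_iff_pow_eq_one]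
      rw [← Subgroup.orderOf_coe] at hwo
      exact hwo.dvd
    have h1 : π x = 1 := (QuotientGroup.eq_one_iff x).mpr (h hxT)
    rw [← Subgroup.orderOf_coe] at hwo
    change orderOf (π x) = s at hwo
    rw [h1, orderOf_one] at hwo
    exact hs.ne_one hwo.symm
  have hTM : T = M := Subgroup.eq_of_le_of_card_ge (fun y hy => hy.1)
    (hmin T ⟨hTn, hAT, fun y hy => hMC hy.1, hTA⟩)
  refine ⟨M, s, hs, hMn, hAM, hMC, fun a ha b hb => hcomm (commutator_mem_commutator ha hb), ?_, ?_,
    hMA⟩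
  · intro y hy
    rw [← hTM] at hy
    have h1 := hy.2
    rw [← map_pow, hπ, QuotientGroup.mk'_apply, QuotientGroup.eq_one_iff] at h1
    exact h1
  · intro y hy hyc
    have := hMn
    have hZ := hmax (M ⊓ centralizer (M : Set G)) inferInstance
      ⟨⟨fun a b => Subtype.ext (mem_centralizer_iff.mp b.2.2 a a.2.1)⟩⟩
      (le_inf hAM fun a ha => mem_centralizer_iff.mpr fun c hc =>
        (mem_centralizer_iff.mp (hMC hc) a ha).symm)
    exact hZ ▸ ⟨hy, mem_centralizer_iff.mpr hyc⟩

variable {A N : Subgroup G} {s : ℕ}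

theorem Layer.commute (hL : Layer A N s) {a u : G} (ha : a ∈ A) (hu : u ∈ N) : a * u = u * a :=
  mem_centralizer_iff.mp (hL.le_cent hu) a ha

/-- An element of prime order prime to `|A|`, trivial on the layer quotient, centralises the layer. -/
theorem Layer.commute_of_trivial [Finite G] (hL : Layer A N s) {y u : G}
    (hy : y ∈ centralizer (A : Set G)) {p : ℕ} (hp : p.Prime) (hyp : y ^ p = 1)
    (hpA : ¬ p ∣ Nat.card A) (hu : u ∈ N) (h : ⁅y, u⁆ ∈ A) : y * u = u * y := by
  have ha : ∀ k : ℕ, y ^ k * u = ⁅y, u⁆ ^ k * u * y ^ k := by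
    intro k
    induction k with
    | zero => simp
    | succ k ih =>
      have e1 : y * u = ⁅y, u⁆ * u * y := by rw [commutatorElement_def]; group
      have e2 : y * ⁅y, u⁆ ^ k = ⁅y, u⁆ ^ k * y :=
        ((show Commute ⁅y, u⁆ y from mem_centralizer_iff.mp hy _ h).pow_left k).symm.eq
      calc y ^ (k + 1) * u = y * (y ^ k * u) := by rw [pow_succ', mul_assoc]
        _ = y * ⁅y, u⁆ ^ k * u * y ^ k := by rw [ih]; simp only [mul_assoc]
        _ = ⁅y, u⁆ ^ k * (y * u) * y ^ k := by rw [e2]; simp only [mul_assoc]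
        _ = ⁅y, u⁆ ^ (k + 1) * u * y ^ (k + 1) := by
          rw [e1, pow_succ' y, pow_succ ⁅y, u⁆]; simp only [mul_assoc]
  have h1 := ha p
  rw [hyp, one_mul, mul_one, right_eq_mul] at h1
  rcases (Nat.dvd_prime hp).mp (orderOf_dvd_of_pow_eq_one h1) with h2 | h2
  · exact commutatorElement_eq_one_iff_mul_comm.mp (orderOf_eq_one_iff.mp h2)
  · exact absurd (h2 ▸ Subgroup.orderOf_dvd_natCard A h) hpA

/-- The commutative quotient. -/
@[reducible] def quoCommGroup [A.Normal] (hL : Layer A N s) : CommGroup (N ⧸ A.subgroupOf N) :=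
  { (inferInstance : Group (N ⧸ A.subgroupOf N)) with
    mul_comm := by
      intro a b
      induction a using QuotientGroup.induction_on with | _ a =>
      induction b using QuotientGroup.induction_on with | _ b =>
      rw [← QuotientGroup.mk_mul, ← QuotientGroup.mk_mul, QuotientGroup.eq, mem_subgroupOf]
      have h := hL.comm _ (inv_mem b.2) _ (inv_mem a.2)
      rw [commutatorElement_def, inv_inv, inv_inv] at h
      simpa [mul_assoc] using h }

theorem quo_eq_one [A.Normal] (u : N) : (u : N ⧸ A.subgroupOf N) = 1 ↔ (u : G) ∈ A := by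
  rw [QuotientGroup.eq_one_iff, mem_subgroupOf]

/-- The conjugation action on the quotient. -/
noncomputable def quoAut [A.Normal] [N.Normal] : G →* MulAut (N ⧸ A.subgroupOf N) where
  toFun g := QuotientGroup.congr _ _ (MulAut.conjNormal g) (by
    ext x
    constructor
    · rintro ⟨y, hy, rfl⟩
      rw [mem_subgroupOf]
      show ((MulAut.conjNormal g y : N) : G) ∈ A
      rw [MulAut.conjNormal_apply]
      exact (inferInstance : A.Normal).conj_mem _ hy g
    · intro hx
      refine ⟨MulAut.conjNormal g⁻¹ x, ?_, ?_⟩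
      · show ((MulAut.conjNormal g⁻¹ x : N) : G) ∈ A
        rw [MulAut.conjNormal_apply]
        exact (inferInstance : A.Normal).conj_mem _ hx _
      · show MulAut.conjNormal g (MulAut.conjNormal g⁻¹ x) = x
        rw [← MulAut.mul_apply, ← map_mul, mul_inv_cancel, map_one, MulAut.one_apply])
  map_one' := MulEquiv.ext fun x => by
    induction x using QuotientGroup.induction_on with | _ x =>
    simp
  map_mul' g h := MulEquiv.ext fun x => by
    induction x using QuotientGroup.induction_on with | _ x =>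
    simp

theorem quoAut_mk [A.Normal] [N.Normal] (g : G) (u : N) :
    quoAut (A := A) g (u : N ⧸ A.subgroupOf N) = ((MulAut.conjNormal g u : N) : N ⧸ A.subgroupOf N) :=
  rfl

theorem quoAut_eq_one_iff [A.Normal] [N.Normal] (g : G) :
    quoAut (A := A) (N := N) g = 1 ↔ ∀ u ∈ N, ⁅g, u⁆ ∈ A := by
  have key : ∀ u : N, ((MulAut.conjNormal g u : N) : N ⧸ A.subgroupOf N) = u ↔
      ⁅g, (u : G)⁆ ∈ A := by
    intro u
    rw [eq_comm, QuotientGroup.eq, mem_subgroupOf, Subgroup.coe_mul, Subgroup.coe_inv,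
      MulAut.conjNormal_apply, (inferInstance : A.Normal).mem_comm_iff, commutatorElement_def]
  constructor
  · intro h u hu
    have h1 : quoAut (A := A) (N := N) g ((⟨u, hu⟩ : N) : N ⧸ A.subgroupOf N) =
        ((⟨u, hu⟩ : N) : N ⧸ A.subgroupOf N) := by rw [h]; rfl
    rw [quoAut_mk] at h1
    exact (key _).mp h1
  · intro h
    refine MulEquiv.ext fun x => ?_
    induction x using QuotientGroup.induction_on with | _ x =>
    rw [quoAut_mk, MulAut.one_apply]
    exact (key x).mpr (h _ x.2)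

theorem card_layer [A.Normal] (hL : Layer A N s) :
    Nat.card N = Nat.card A * Nat.card (N ⧸ A.subgroupOf N) := by
  rw [Subgroup.card_eq_card_quotient_mul_card_subgroup (A.subgroupOf N), mul_comm,
    Nat.card_congr (subgroupOfEquivOfLe hL.le).toEquiv]

end Group

variable {q : ℕ} [Fact q.Prime] {V : Type*} [AddCommGroup V] [Module (ZMod q) V] [Finite V]
  {G : Type*} [Group G] {ρ : G →* (V ≃ₗ[ZMod q] V)} {A N : Subgroup G} {s : ℕ}

/-- The field of a normal abelian subgroup. -/
@[reducible] noncomputable def algField [Nontrivial V] (htr : Trans ρ) (hAn : A.Normal)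
    (hAc : IsMulCommutative A) : Field (alg ρ A) :=
  (alg_isField htr hAn hAc).toField

/-- The commutator pairing. -/
theorem exists_pairing [Nontrivial V] (hρ : Function.Injective ρ) (htr : Trans ρ) [A.Normal]
    (hAc : IsMulCommutative A) (hL : Layer A N s) :
    letI := quoCommGroup hL
    letI := algField htr inferInstance hAc
    ∃ χ : N ⧸ A.subgroupOf N →* N ⧸ A.subgroupOf N →* (alg ρ A)ˣ,
      (∀ w, χ w w = 1) ∧ (∀ w, (∀ x, χ w x = 1) → w = 1) ∧
      ∀ u v : N, ((χ u v : (alg ρ A)ˣ) : alg ρ A).1 = act ρ ⁅(u : G), (v : G)⁆ := by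
  letI := quoCommGroup hL
  letI := algField htr inferInstance hAc
  let ι : A →* (alg ρ A)ˣ := MonoidHom.toHomUnits
    { toFun := fun a => ⟨act ρ a, act_mem a.2⟩
      map_one' := Subtype.ext (map_one _)
      map_mul' := fun a b => Subtype.ext (map_mul (act ρ) (a : G) b) }
  have hι : ∀ a : A, ((ι a : (alg ρ A)ˣ) : alg ρ A).1 = act ρ a := fun _ => rfl
  let c : N → N → (alg ρ A)ˣ := fun u v => ι ⟨⁅(u : G), (v : G)⁆, hL.comm _ u.2 _ v.2⟩
  have hval : ∀ u v, ((c u v : (alg ρ A)ˣ) : alg ρ A).1 = act ρ ⁅(u : G), (v : G)⁆ := fun _ _ => rfl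
  have hext : ∀ x y : (alg ρ A)ˣ, ((x : alg ρ A)).1 = ((y : alg ρ A)).1 → x = y :=
    fun x y h => Units.ext (Subtype.ext h)
  have hmulr : ∀ u v w, c u (v * w) = c u v * c u w := by
    intro u v w
    rw [← map_mul]
    refine congrArg ι (Subtype.ext ?_)
    show ⁅(u : G), (v : G) * w⁆ = ⁅(u : G), (v : G)⁆ * ⁅(u : G), (w : G)⁆
    have h := hL.commute (hL.comm _ u.2 _ w.2) v.2
    calc ⁅(u : G), (v : G) * w⁆ = ⁅(u : G), (v : G)⁆ * ((v : G) * ⁅(u : G), (w : G)⁆ * (v : G)⁻¹) := by
          simp only [commutatorElement_def]; group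
      _ = _ := by rw [← h, mul_inv_cancel_right]
  have hmull : ∀ u v w, c (u * v) w = c u w * c v w := by
    intro u v w
    rw [mul_comm, ← map_mul]
    refine congrArg ι (Subtype.ext ?_)
    show ⁅(u : G) * v, (w : G)⁆ = ⁅(v : G), (w : G)⁆ * ⁅(u : G), (w : G)⁆
    have h := hL.commute (hL.comm _ v.2 _ w.2) u.2
    calc ⁅(u : G) * v, (w : G)⁆ = ((u : G) * ⁅(v : G), (w : G)⁆ * (u : G)⁻¹) * ⁅(u : G), (w : G)⁆ := by
          simp only [commutatorElement_def]; group
      _ = _ := by rw [← h, mul_inv_cancel_right]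
  have hA1 : ∀ u v : N, (v : G) ∈ A → c u v = 1 ∧ c v u = 1 := by
    intro u v hv
    refine ⟨hext _ _ ?_, hext _ _ ?_⟩
    · rw [hval, commutatorElement_eq_one_iff_mul_comm.mpr (hL.commute hv u.2).symm, map_one]; rfl
    · rw [hval, commutatorElement_eq_one_iff_mul_comm.mpr (hL.commute hv u.2), map_one]; rfl
  let c1 : N → (N ⧸ A.subgroupOf N →* (alg ρ A)ˣ) := fun u =>
    QuotientGroup.lift _ (MonoidHom.mk' (c u) (hmulr u)) fun v hv => (hA1 u v hv).1
  let c2 : N →* (N ⧸ A.subgroupOf N →* (alg ρ A)ˣ) := MonoidHom.mk' c1 fun u v => by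
    refine MonoidHom.ext fun x => ?_
    induction x using QuotientGroup.induction_on with | _ x =>
    exact hmull u v x
  refine ⟨QuotientGroup.lift _ c2 fun u hu => MonoidHom.mem_ker.mpr (MonoidHom.ext fun x => ?_),
    fun w => ?_, fun w hw => ?_, fun u v => rfl⟩
  · induction x using QuotientGroup.induction_on with | _ x =>
    exact (hA1 x u hu).2
  · induction w using QuotientGroup.induction_on with | _ w =>
    refine hext _ _ ?_
    show ((c w w : (alg ρ A)ˣ) : alg ρ A).1 = _
    rw [hval, commutatorElement_self, map_one]; rfl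
  · induction w using QuotientGroup.induction_on with | _ w =>
    refine (quo_eq_one w).mpr (hL.cent _ w.2 fun y hy => ?_)
    have h1 := hw ((⟨y, hy⟩ : N) : N ⧸ A.subgroupOf N)
    have h2 : act ρ ⁅(w : G), y⁆ = act ρ 1 := by
      rw [map_one, ← hval w ⟨y, hy⟩]
      exact congrArg (fun z : (alg ρ A)ˣ => (z : alg ρ A).1) h1
    exact (commutatorElement_eq_one_iff_mul_comm.mp (act_injective ρ hρ h2)).symm

/-- The prime bound. -/
theorem prime_bound [Finite G] [Nontrivial V] (hρ : Function.Injective ρ) (htr : Trans ρ)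
    (hAn : A.Normal) (hAc : IsMulCommutative A) (hL : Layer A N s) {y : G}
    (hy : y ∈ centralizer (A : Set G)) {p j : ℕ} (hp : p.Prime) (hyp : y ^ p = 1)
    (hpA : ¬ p ∣ Nat.card A) (hpW : ¬ p ∣ A.relIndex N) (hj : A.relIndex N = j * j)
    (hne : ∃ u ∈ N, y * u ≠ u * y) : p ≤ j + 1 := by
  have := hL.normal
  letI := quoCommGroup hL
  letI := algField htr hAn hAc
  have : Finite (alg ρ A) := Subtype.finite
  obtain ⟨χ, halt, hnd, hval⟩ := exists_pairing hρ htr hAc hL
  refine pairing_prime_bound χ halt hnd (quoAut y) (fun w x => ?_) hp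
    (by rw [← map_pow, hyp, map_one]) (fun h => ?_) hpW hj
  · induction w using QuotientGroup.induction_on with | _ w =>
    induction x using QuotientGroup.induction_on with | _ x =>
    refine Units.ext (Subtype.ext ?_)
    rw [quoAut_mk, quoAut_mk, hval, hval, MulAut.conjNormal_apply, MulAut.conjNormal_apply]
    have h : y * ⁅(w : G), (x : G)⁆ = ⁅(w : G), (x : G)⁆ * y :=
      (mem_centralizer_iff.mp hy _ (hL.comm _ w.2 _ x.2)).symm
    congr 1
    calc ⁅y * (w : G) * y⁻¹, y * (x : G) * y⁻¹⁆ = y * ⁅(w : G), (x : G)⁆ * y⁻¹ := by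
          simp only [commutatorElement_def]; group
      _ = ⁅(w : G), (x : G)⁆ := by rw [h, mul_inv_cancel_right]
  · obtain ⟨u, hu, hyu⟩ := hne
    exact hyu (hL.commute_of_trivial hy hp hyp hpA hu ((quoAut_eq_one_iff y).mp h u hu))

theorem layer_twist [Finite G] [Nontrivial V] (hρ : Function.Injective ρ) (htr : Trans ρ)
    (hAn : A.Normal) (hAc : IsMulCommutative A) (hmax : IsMaxAb A) (hL : Layer A N s) :
    ∃ j k, A.relIndex N = j * j ∧ A.relIndex N = s ^ k ∧ 1 < j ∧ s ∣ j ∧
      s ∣ q ^ deg ρ A - 1 ∧ j * deg ρ A ≤ Module.finrank (ZMod q) V ∧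
      (j * deg ρ A = Module.finrank (ZMod q) V → ∀ y ∈ centralizer (A : Set G),
        ((∀ u ∈ N, ⁅y, u⁆ ∈ A) → y ∈ N) ∧ ((∀ u ∈ N, y * u = u * y) → y ∈ A)) := by
  classical
  have := hL.normal
  letI := quoCommGroup hL
  letI := algField htr hAn hAc
  have : Finite (alg ρ A) := Subtype.finite
  obtain ⟨χ, halt, hnd, hval⟩ := exists_pairing hρ htr hAc hL
  have : Fact s.Prime := ⟨hL.prime⟩
  obtain ⟨j, hj⟩ := CfsgLib.TransitiveSolvable.isSquare_card_of_pairing
    (Nat.card (N ⧸ A.subgroupOf N)) (N ⧸ A.subgroupOf N) le_rfl χ halt hnd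
  have hpow : ∀ w : N ⧸ A.subgroupOf N, w ^ s = 1 := by
    intro w
    induction w using QuotientGroup.induction_on with | _ w =>
    rw [← QuotientGroup.mk_pow, quo_eq_one, SubmonoidClass.coe_pow]
    exact hL.pow _ w.2
  have hpg : IsPGroup s (N ⧸ A.subgroupOf N) := fun w => ⟨1, by rw [pow_one]; exact hpow w⟩
  obtain ⟨k, hk⟩ := IsPGroup.iff_card.mp hpg
  obtain ⟨u0, hu0, hu0A⟩ := SetLike.not_le_iff_exists.mp hL.not_le
  have hw0 : ((⟨u0, hu0⟩ : N) : N ⧸ A.subgroupOf N) ≠ 1 := fun h => hu0A ((quo_eq_one _).mp h)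
  have : Nontrivial (N ⧸ A.subgroupOf N) := ⟨⟨_, _, hw0⟩⟩
  have hcard1 : 1 < Nat.card (N ⧸ A.subgroupOf N) := Finite.one_lt_card
  have hj1 : 1 < j := by
    by_contra h
    rcases Nat.lt_or_ge j 1 with h0 | h0
    · obtain rfl : j = 0 := by omega
      omega
    · obtain rfl : j = 1 := by omega
      omega
  have hsj : s ∣ j := by
    have hk0 : k ≠ 0 := fun h => by rw [h, pow_zero] at hk; omega
    have : s ∣ j * j := hj ▸ hk ▸ dvd_pow_self s hk0
    exact (hL.prime.dvd_mul.mp this).elim id id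
  have hsq : s ∣ q ^ deg ρ A - 1 := by
    obtain ⟨x, hx⟩ : ∃ x, χ ((⟨u0, hu0⟩ : N) : N ⧸ A.subgroupOf N) x ≠ 1 := by
      by_contra hno
      simp only [not_exists, not_not] at hno
      exact hw0 (hnd _ hno)
    have h1 : (χ ((⟨u0, hu0⟩ : N) : N ⧸ A.subgroupOf N) x) ^ s = 1 := by
      rw [← map_pow, hpow, map_one]
    have h2 : orderOf (χ ((⟨u0, hu0⟩ : N) : N ⧸ A.subgroupOf N) x) = s := orderOf_eq_prime h1 hx
    have h3 := orderOf_dvd_natCard (χ ((⟨u0, hu0⟩ : N) : N ⧸ A.subgroupOf N) x)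
    rwa [h2, Nat.card_units, Module.natCard_eq_pow_finrank (K := ZMod q) (V := alg ρ A),
      Nat.card_zmod] at h3
  -- the linear family
  have : Module.Finite (alg ρ A) V := Module.Finite.of_finite
  let lin : centralizer (A : Set G) →* Module.End (alg ρ A) V :=
    { toFun := fun c =>
        { toFun := act ρ c
          map_add' := map_add _
          map_smul' := fun r v => by
            show act ρ c ((r : Module.End (ZMod q) V) v) = (r : Module.End (ZMod q) V) (act ρ c v)
            rw [← Module.End.mul_apply, (commute_alg c.2 r.2).eq, Module.End.mul_apply] }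
      map_one' := LinearMap.ext fun v => by
        show act ρ (1 : G) v = v
        rw [map_one, Module.End.one_apply]
      map_mul' := fun a b => LinearMap.ext fun v => by
        show act ρ ((a : G) * b) v = act ρ a (act ρ b v)
        rw [map_mul, Module.End.mul_apply] }
  let inc : N → centralizer (A : Set G) := fun u => ⟨u, hL.le_cent u.2⟩
  have hlin : ∀ (a : N) (y : centralizer (A : Set G)) (h : ⁅(a : G), (y : G)⁆ ∈ A),
      lin (inc a) * lin y = (⟨act ρ ⁅(a : G), (y : G)⁆, act_mem h⟩ : alg ρ A) • (lin y * lin (inc a)) := by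
    intro a y h
    refine LinearMap.ext fun v => ?_
    show act ρ a (act ρ y v) = act ρ ⁅(a : G), (y : G)⁆ (act ρ y (act ρ a v))
    simp only [← Module.End.mul_apply, ← map_mul, ← mul_assoc]
    congr 2
    rw [commutatorElement_def]; group
  let fam : N ⧸ A.subgroupOf N → Module.End (alg ρ A) V := fun w => lin (inc w.out)
  let cc : N → N ⧸ A.subgroupOf N → alg ρ A := fun a w => (χ (a : N ⧸ A.subgroupOf N) w : (alg ρ A)ˣ)
  have hunit : ∀ y : centralizer (A : Set G), IsUnit (lin y) := fun y => (Group.isUnit y).map lin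
  have hfam0 : ∀ w, fam w ≠ 0 := fun w => (hunit _).ne_zero
  have htw : ∀ a w, lin (inc a) * fam w = cc a w • (fam w * lin (inc a)) := by
    intro a w
    rw [hlin a (inc w.out) (hL.comm _ a.2 _ w.out.2)]
    congr 1
    refine Subtype.ext ?_
    show _ = ((χ (a : N ⧸ A.subgroupOf N) w : (alg ρ A)ˣ) : alg ρ A).1
    conv_rhs => rw [← QuotientGroup.out_eq' w]
    rw [hval]
  have hsep : ∀ i i', i ≠ i' → ∃ a, cc a i ≠ cc a i' := by
    intro i i' hne
    by_contra hno
    simp only [not_exists, not_not] at hno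
    apply hne
    rw [← div_eq_one]
    refine hnd _ fun x => ?_
    induction x using QuotientGroup.induction_on with | _ a =>
    have h0 := halt ((a : N ⧸ A.subgroupOf N) * (i / i'))
    have h1 : χ (a : N ⧸ A.subgroupOf N) (i / i') = 1 := by
      rw [map_div, div_eq_one]; exact Units.ext (hno a)
    simpa only [map_mul, MonoidHom.mul_apply, halt, h1, one_mul, mul_one] using h0
  letI : Fintype (N ⧸ A.subgroupOf N) := Fintype.ofFinite _
  have hli := twist_independent fam (fun a => lin (inc a)) cc hfam0 (fun a => hunit _) htw hsep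
  have hdim : Module.finrank (alg ρ A) (Module.End (alg ρ A) V) =
      Module.finrank (alg ρ A) V * Module.finrank (alg ρ A) V :=
    Module.finrank_linearMap (alg ρ A) (alg ρ A) V V
  have hle := hli.fintype_card_le_finrank
  rw [hdim, ← Nat.card_eq_fintype_card, hj] at hle
  have hjm : j ≤ Module.finrank (alg ρ A) V := Nat.mul_self_le_mul_self_iff.mp hle
  have hn : deg ρ A * Module.finrank (alg ρ A) V = Module.finrank (ZMod q) V :=
    Module.finrank_mul_finrank (ZMod q) (alg ρ A) V
  have hrel : A.relIndex N = Nat.card (N ⧸ A.subgroupOf N) := rfl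
  refine ⟨j, k, hrel.trans hj, hrel.trans hk, hj1, hsj, hsq, ?_, fun heq y hy => ?_⟩
  · rw [← hn, mul_comm]; exact Nat.mul_le_mul_left _ hjm
  have hjeq : j = Module.finrank (alg ρ A) V :=
    Nat.eq_of_mul_eq_mul_left (show 0 < deg ρ A from Module.finrank_pos)
      (by rw [mul_comm, heq, hn])
  have hspan : Submodule.span (alg ρ A) (Set.range fam) = ⊤ :=
    hli.span_eq_top_of_card_eq_finrank (by rw [hdim, ← Nat.card_eq_fintype_card, hj, hjeq])
  have main : (∀ u ∈ N, ⁅y, u⁆ ∈ A) → ∃ i : N ⧸ A.subgroupOf N, y * ((i.out : N) : G)⁻¹ ∈ A ∧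
      ∀ a : N, act ρ ⁅(a : G), y⁆ = ((χ (a : N ⧸ A.subgroupOf N) i : (alg ρ A)ˣ) : alg ρ A).1 := by
    intro h
    have h' : ∀ a : N, ⁅(a : G), y⁆ ∈ A := fun a => by
      rw [← commutatorElement_inv]; exact inv_mem (h _ a.2)
    obtain ⟨i, b, hb, hci⟩ := twist_span fam (fun a => lin (inc a)) cc hfam0 (fun a => hunit _) htw
      hsep hspan (y := lin ⟨y, hy⟩) (hunit _).ne_zero
      (d := fun a => ⟨act ρ ⁅(a : G), y⁆, act_mem (h' a)⟩) (fun a => hlin a ⟨y, hy⟩ (h' a))
    refine ⟨i, ?_, fun a => (congrArg Subtype.val (hci a)).symm⟩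
    set z : centralizer (A : Set G) := ⟨y, hy⟩ * (inc i.out)⁻¹ with hz
    have hlz : lin z = b • (1 : Module.End (alg ρ A) V) := by
      rw [hz, map_mul, hb, smul_mul_assoc]
      show b • (lin (inc i.out) * lin (inc i.out)⁻¹) = _
      rw [← map_mul, mul_inv_cancel, map_one]
    refine mem_of_center hAn hAc hmax (z := (z : G)) z.2 fun c hc => act_injective ρ hρ ?_
    have : lin ⟨c, hc⟩ * lin z = lin z * lin ⟨c, hc⟩ := by
      rw [hlz, mul_smul_comm, mul_one, smul_mul_assoc, one_mul]
    refine LinearMap.ext fun v => ?_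
    have h2 := LinearMap.congr_fun this v
    rw [map_mul, map_mul]
    exact h2
  refine ⟨fun h => ?_, fun h => ?_⟩
  · obtain ⟨i, hi, -⟩ := main h
    have := mul_mem (hL.le hi) i.out.2
    rwa [inv_mul_cancel_right] at this
  · obtain ⟨i, hi, hc⟩ := main fun u hu => by
      rw [commutatorElement_eq_one_iff_mul_comm.mpr (h u hu)]; exact one_mem A
    have hi1 : i = 1 := hnd i fun x => by
      induction x using QuotientGroup.induction_on with | _ a =>
      have h1 : χ (a : N ⧸ A.subgroupOf N) i = 1 := Units.ext (Subtype.ext (by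
        rw [← hc a, commutatorElement_eq_one_iff_mul_comm.mpr (h _ a.2).symm, map_one]; rfl))
      have h0 := halt ((a : N ⧸ A.subgroupOf N) * i)
      simpa only [map_mul, MonoidHom.mul_apply, halt, h1, one_mul, mul_one] using h0
    have h3 : ((i.out : N) : G) ∈ A := (quo_eq_one _).mp (by rw [QuotientGroup.out_eq', hi1])
    have := mul_mem hi h3
    rwa [inv_mul_cancel_right] at this

/-- The order of the group in the absolutely irreducible case of a `2`-layer. -/
theorem card_eq_of_saturated [Finite G] (hAn : A.Normal) (hL : Layer A N 2) {k : ℕ}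
    (hk : A.relIndex N = 2 ^ k)
    (hsat : ∀ y : G, (∀ u ∈ N, ⁅y, u⁆ ∈ A) → y ∈ N) :
    ∃ d, Nat.card G = Nat.card A * 2 ^ k * d ∧ d ∣ ∏ i : Fin k, (2 ^ k - 2 ^ (i : ℕ)) := by
  classical
  have := hL.normal
  letI := quoCommGroup hL
  set φ : G →* MulAut (N ⧸ A.subgroupOf N) := quoAut (A := A) with hφ
  have hker : φ.ker = N := by
    ext y
    rw [MonoidHom.mem_ker, hφ, quoAut_eq_one_iff]
    exact ⟨hsat y, fun hy u hu => hL.comm _ hy _ hu⟩
  refine ⟨Nat.card φ.range, ?_, ?_⟩
  · rw [← index_ker, hker, ← hk, ← N.card_mul_index, card_layer hL]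
    rfl
  refine (Subgroup.card_subgroup_dvd_card _).trans (dvd_of_eq ?_)
  have h2 : ∀ w : N ⧸ A.subgroupOf N, w * w = 1 := by
    intro w
    induction w using QuotientGroup.induction_on with | _ w =>
    rw [← QuotientGroup.mk_mul, quo_eq_one, Subgroup.coe_mul, ← pow_two]
    exact hL.pow _ w.2
  exact card_mulAut_elementary hk h2

end CfsgLib.TransLinear
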